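import Mathlib
import Cfsg.Prelude.Def_LocalStructure
import Cfsg.Agent.Lib.Helper16.Trace
import Cfsg.Agent.Lib.Helper16.Subn2
import Cfsg.Agent.Lib.Helper16.Asym2
import Cfsg.Agent.Lib.Helper13.CardSup

set_option autoImplicit false
open scoped commutatorElement

namespace Cfsg.Agent.Lib.Helper16

section fmex
variable {G : Type*} [Group G] {p : ℕ}

theorem omegaOne_ne_bot [Fact p.Prime] {A : Subgroup G} [Finite A] (hA : IsPGroup p A) (hne : A ≠ ⊥) :
    omegaOne p A ≠ ⊥ := by
  have hnt : Nontrivial A := (Subgroup.nontrivial_iff_ne_bot A).2 hne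
  have hdvd : p ∣ Nat.card A := by
    obtain ⟨n, hn0, hn⟩ := hA.nontrivial_iff_card.mp hnt
    exact hn.symm ▸ dvd_pow_self _ (ne_of_gt hn0)
  obtain ⟨x, hx⟩ := exists_prime_orderOf_dvd_card' p hdvd
  intro h
  have h1 : (x : G) ∈ omegaOne p A := by
    apply mem_omegaOne x.2
    have := pow_orderOf_eq_one x
    rw [hx] at this
    exact congrArg Subtype.val this
  rw [h, Subgroup.mem_bot] at h1
  have h2 : x = 1 := Subtype.ext h1
  rw [h2, orderOf_one] at hx
  exact (Fact.out : p.Prime).one_lt.ne hx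

theorem omegaZ_ne_bot [Fact p.Prime] {T : Subgroup G} [Finite T] (hT : IsPGroup p T) (hne : T ≠ ⊥) :
    omegaOne p (T ⊓ Subgroup.centralizer (T : Set G)) ≠ ⊥ := by
  have : Finite ↥(T ⊓ Subgroup.centralizer (T : Set G)) :=
    Finite.of_injective (Subgroup.inclusion inf_le_left) (Subgroup.inclusion_injective _)
  exact omegaOne_ne_bot (hT.to_le inf_le_left)
    (inf_centralizer_ne_bot hT hT hne Subgroup.le_normalizer)

/-- relative version of `isPReducedNormal_normalClosure`. -/
theorem yOf_mono [Fact p.Prime] [Finite G] {S R K : Subgroup G} (hS : IsSyl p S K) (hSR : S ≤ R)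
    (hRK : R ≤ K) (hK : K ⊓ Subgroup.centralizer (pCoreOf p K : Set G) ≤ pCoreOf p K) :
    largestPReducedOf p R ≤ largestPReducedOf p K := by
  set X := largestPReducedOf p R with hX
  have hXR : X ≤ R := yOf_le p R
  have hXe : IsElementaryAbelian p X := yOf_isElementaryAbelian R
  have hXred : RedFor p X R := yOf_redFor R
  set O := pCoreOf p K with hO
  have hOp : IsPGroup p O := pCoreOf_isPGroup K
  have hKO : K ≤ Subgroup.normalizer (O : Set G) := le_normalizer_pCoreOf K
  have hOR : O ≤ R := (pCoreOf_le_isSyl hS).trans hSR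
  have hOX : O ≤ Subgroup.centralizer (X : Set G) := by
    apply hXred _ hOR (hRK.trans hKO)
    intro d hd
    obtain ⟨k, hk⟩ := hOp ⟨d, hd⟩
    refine ⟨k, ?_⟩
    have : d ^ p ^ k = 1 := congrArg Subtype.val hk
    rw [this]; exact Subgroup.one_mem _
  have hXO : X ≤ O := (le_inf (hXR.trans hRK) (Subgroup.le_centralizer_iff.1 hOX)).trans hK
  have hXl : ∀ l : K, X.map (MulAut.conj (l : G)).toMonoidHom ≤ O := by
    intro l
    rw [← cj_eq_self_iff.2 (hKO l.2)]; exact cj_le_cj.2 hXO
  have hOl : ∀ l : K, O ≤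
      Subgroup.centralizer ((X.map (MulAut.conj (l : G)).toMonoidHom : Subgroup G) : Set G) := by
    intro l
    rw [centralizer_cj, ← cj_eq_self_iff.2 (hKO l.2)]; exact cj_le_cj.2 hOX
  set V := ⨆ k : K, X.map (MulAut.conj (k : G)).toMonoidHom with hV
  have hXV : X ≤ V := le_iSup_cj X K
  have hVK : V ≤ K := iSup_cj_le (hXR.trans hRK)
  refine hXV.trans (le_yOf hVK ?_)
  rw [isPReducedNormal_subgroupOf_iff' hVK]
  refine ⟨le_normalizer_iSup_cj X K, ?_, ?_⟩
  · exact isElementaryAbelian_iSup (fun l => isElementaryAbelian_cj hXe _)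
      (fun i j => (hXl i).trans (hOl j))
  · intro D hDK hKD hD
    have hVX : Subgroup.centralizer (V : Set G) ≤ Subgroup.centralizer (X : Set G) :=
      Subgroup.centralizer_le (SetLike.coe_subset_coe.2 hXV)
    have hs : IsSyl p (S ⊓ D) D := hS.inf_normal hDK hKD
    have hDX : D ≤ Subgroup.centralizer (X : Set G) := by
      apply le_of_pow_mem hs hD hVX
      refine (inf_le_inf_right D hSR).trans ?_
      apply hXred _ inf_le_left
      · exact (le_inf Subgroup.le_normalizer (hRK.trans hKD)).trans (normalizer_inf_le _ _)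
      · intro d hd
        obtain ⟨k, hk⟩ := hD d hd.2
        exact ⟨k, hVX hk⟩
    apply Subgroup.le_centralizer_iff.1
    apply iSup_le
    intro l
    apply Subgroup.le_centralizer_iff.1
    rw [centralizer_cj, ← cj_eq_self_iff.2 (hKD l.2)]
    exact cj_le_cj.2 hDX

/-- Sylow subgroups of a supplement `K'` to `D` containing a Sylow subgroup of `D`. -/
theorem isSyl_of_supplement [Fact p.Prime] [Finite G] {M K' D T₀ S₁ : Subgroup G}
    (hKD : K' ≤ Subgroup.normalizer (D : Set G)) (hsup : K' ⊔ D = M) (hT₀ : IsSyl p T₀ D)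
    (hT₀K : T₀ ≤ K') (hS₁ : IsSyl p S₁ K') : IsSyl p S₁ M := by
  have hp : p.Prime := Fact.out
  have h1 := Cfsg.Agent.Lib.Helper13.card_sup_mul_card_inf K' D hKD
  rw [hsup] at h1
  have h2 := hT₀.card
  have h3 := (hT₀.of_le (le_inf hT₀K hT₀.le) inf_le_right).card
  have h4 : (Nat.card ↥D).factorization p = (Nat.card ↥(K' ⊓ D : Subgroup G)).factorization p :=
    Nat.pow_right_injective hp.two_le (h2.symm.trans h3)
  have h5 : (Nat.card ↥M * Nat.card ↥(K' ⊓ D : Subgroup G)).factorization p =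
      (Nat.card ↥K' * Nat.card ↥D).factorization p := by rw [h1]
  rw [Nat.factorization_mul Nat.card_pos.ne' Nat.card_pos.ne',
    Nat.factorization_mul Nat.card_pos.ne' Nat.card_pos.ne'] at h5
  simp only [Finsupp.coe_add, Pi.add_apply] at h5
  apply isSyl_of_card (hS₁.le.trans (hsup ▸ le_sup_left))
  rw [hS₁.card]
  congr 1
  omega

end fmex

end Cfsg.Agent.Lib.Helper16
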