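import Mathlib
import Cfsg.Prelude.Def_LocalStructure
import Cfsg.Agent.Lib.Helper16.FMEx
import Cfsg.Agent.H4.Frattini
import Cfsg.Agent.S2824

set_option autoImplicit false
open scoped commutatorElement

namespace Cfsg.Agent.Lib.Helper16

section fmex2
variable {G : Type*} [Group G] {p : ℕ}

theorem omegaZ_le_yOf [Fact p.Prime] [Finite G] {S L : Subgroup G} (hS : IsSyl p S L)
    (hL : Subgroup.centralizer (pCore p ↥L : Set ↥L) ≤ pCore p ↥L) :
    omegaOne p (S ⊓ Subgroup.centralizer (S : Set G)) ≤ largestPReducedOf p L := by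
  have hYS : largestPReducedOf p L ≤ S := (yOf_le_pCoreOf L).trans (pCoreOf_le_isSyl hS)
  rw [yOf_eq_omega hS hL]
  unfold omegaOne
  apply Subgroup.closure_mono
  rintro x ⟨⟨hx1, hx2⟩, hxp⟩
  refine ⟨⟨⟨hx1, ?_⟩, ?_⟩, hxp⟩
  · exact Subgroup.centralizer_le (SetLike.coe_subset_coe.2 hYS) hx2
  · exact Subgroup.centralizer_le (SetLike.coe_subset_coe.2 inf_le_left) hx2

theorem mem_charP_iff {X : Subgroup G} : X ∈ charPSubgroups p G ↔
    pCoreOf p X ≠ ⊥ ∧ Subgroup.centralizer (pCoreOf p X : Set G) ≤ pCoreOf p X := by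
  rw [pCoreOf_ne_bot_iff]
  rfl

theorem charP_of_le [Fact p.Prime] [Finite G] {M X T : Subgroup G} (hM : M ∈ charPSubgroups p G)
    (hT : IsSyl p T M) (hTX : T ≤ X) (hXM : X ≤ M) : X ∈ charPSubgroups p G := by
  rw [mem_charP_iff] at hM ⊢
  have h1 : pCoreOf p M ≤ pCoreOf p X :=
    le_pCoreOf ((pCoreOf_le_isSyl hT).trans hTX) (hXM.trans (le_normalizer_pCoreOf M))
      (pCoreOf_isPGroup M)
  refine ⟨fun h => hM.1 (le_bot_iff.1 (h ▸ h1)), ?_⟩
  exact ((Subgroup.centralizer_le (SetLike.coe_subset_coe.2 h1)).trans hM.2).trans h1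

theorem charP_type {X : Subgroup G} (hX : X ∈ charPSubgroups p G) :
    Subgroup.centralizer (pCore p ↥X : Set ↥X) ≤ pCore p ↥X :=
  hasCharP_iff.2 (inf_le_right.trans (mem_charP_iff.1 hX).2)

/-- the subgroup `M` constructed inside `M₁ = N(Y*)`. -/
theorem frakM_of_minimal [Fact p.Prime] [Finite G] (T : Sylow p G) {M₁ M : Subgroup G}
    (hM₁ : M₁ ∈ charPSubgroups p G) (hTM : (T : Subgroup G) ≤ M) (hMM₁ : M ≤ M₁)
    (hCM₁ : Subgroup.centralizer (largestPReducedOf p M₁ : Set G) ≤ M₁)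
    (hMT₀ : M ≤ Subgroup.normalizer (((T : Subgroup G) ⊓
      Subgroup.centralizer (largestPReducedOf p M₁ : Set G) : Subgroup G) : Set G))
    (hsup : M ⊔ Subgroup.centralizer (largestPReducedOf p M₁ : Set G) = M₁) :
    largestPReducedOf p M = largestPReducedOf p M₁ ∧ M ∈ charPSubgroups p G ∧
      IsPClosed p ↥(M ⊓ Subgroup.centralizer (largestPReducedOf p M₁ : Set G)) ∧
      IsSyl p ((T : Subgroup G) ⊓ Subgroup.centralizer (largestPReducedOf p M₁ : Set G))
        (M ⊓ Subgroup.centralizer (largestPReducedOf p M₁ : Set G)) := by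
  set Y := largestPReducedOf p M₁ with hY
  set C := Subgroup.centralizer (Y : Set G) with hC
  set T₀ := (T : Subgroup G) ⊓ C with hT₀
  have hTM₁ : (T : Subgroup G) ≤ M₁ := hTM.trans hMM₁
  have hT1 : IsSyl p (T : Subgroup G) M₁ := (isSyl_sylow T).of_le hTM₁ le_top
  have hT2 : IsSyl p (T : Subgroup G) M := (isSyl_sylow T).of_le hTM le_top
  have hM₁Y : M₁ ≤ Subgroup.normalizer (Y : Set G) := le_normalizer_yOf p M₁
  have hNC : Subgroup.normalizer (Y : Set G) ≤ Subgroup.normalizer (C : Set G) :=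
    normalizer_le_normalizer_centralizer Y
  have hYe : IsElementaryAbelian p Y := yOf_isElementaryAbelian M₁
  have hYT : Y ≤ (T : Subgroup G) := (yOf_le_pCoreOf M₁).trans (pCoreOf_le_isSyl hT1)
  have hYC : Y ≤ C := Subgroup.le_centralizer_iff_isMulCommutative.2 hYe.1
  have hYT₀ : Y ≤ T₀ := le_inf hYT hYC
  have hT₀T : T₀ ≤ (T : Subgroup G) := inf_le_left
  have hT₀O : T₀ ≤ pCoreOf p M := le_pCoreOf (hT₀T.trans hTM) hMT₀ (T.isPGroup'.to_le hT₀T)
  have hs : IsSyl p T₀ (M ⊓ C) := by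
    have h1 := hT2.inf_normal (N := M ⊓ C) inf_le_left
      ((le_inf Subgroup.le_normalizer ((hMM₁.trans hM₁Y).trans hNC)).trans (normalizer_inf_le _ _))
    have h2 : (T : Subgroup G) ⊓ (M ⊓ C) = T₀ := by
      rw [hT₀, ← inf_assoc, inf_eq_left.2 hTM]
    rwa [h2] at h1
  refine ⟨?_, charP_of_le hM₁ hT1 hTM hMM₁, ?_, hs⟩
  · apply le_antisymm
    · set Ys := largestPReducedOf p M with hYs
      have hYsc : Ys ≤ Subgroup.centralizer (T₀ : Set G) :=
        (Subgroup.le_centralizer_iff.1 (pCoreOf_le_centralizer_yOf M)).trans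
          (Subgroup.centralizer_le (SetLike.coe_subset_coe.2 hT₀O))
      have hYsT : Ys ≤ (T : Subgroup G) := (yOf_le_pCoreOf M).trans (pCoreOf_le_isSyl hT2)
      have hYsT₀ : Ys ≤ T₀ :=
        le_inf hYsT (hYsc.trans (Subgroup.centralizer_le (SetLike.coe_subset_coe.2 hYT₀)))
      rw [hY, yOf_eq_omega hT1 (charP_type hM₁), ← hY, ← hC, ← hT₀]
      intro y hy
      exact mem_omegaOne ⟨hYsT₀ hy, hYsc hy⟩ ((yOf_isElementaryAbelian M).2 y hy)
    · have hYM : Y ≤ M := hYT.trans hTM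
      apply le_yOf hYM
      rw [isPReducedNormal_subgroupOf_iff' hYM]
      refine ⟨hMM₁.trans hM₁Y, hYe, (yOf_redFor M₁).of_sup_eq hM₁Y ?_⟩
      rw [← hY, ← hC, hsup]
      exact sup_eq_left.2 hCM₁
  · exact isPClosed_of_isSyl_normal hs (inf_le_left.trans hMT₀)

theorem frattini_cond_of_minimal [Fact p.Prime] [Finite G] {M D T T₀ : Subgroup G}
    (hT : IsSyl p T M) (hDM : D ≤ M) (hMD : M ≤ Subgroup.normalizer (D : Set G))
    (hT₀ : IsSyl p T₀ D) (hT₀O : T₀ ≤ pCoreOf p M)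
    (hmin : ∀ X : Subgroup G, T ≤ X → X ≤ M → X ⊔ D = M → X = M) :
    (D.subgroupOf M).map (QuotientGroup.mk' (pCore p ↥M)) ≤ frattini (↥M ⧸ pCore p ↥M) := by
  rw [Cfsg.Agent.H4.le_frattini_iff]
  intro Kb hKb
  by_contra hcon
  have hK : IsCoatom (Kb.comap (QuotientGroup.mk' (pCore p ↥M))) :=
    isCoatom_comap_of_surjective (QuotientGroup.mk'_surjective _) hKb
  set K := Kb.comap (QuotientGroup.mk' (pCore p ↥M)) with hKdef
  have hOK : pCore p ↥M ≤ K := by
    intro x hx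
    rw [hKdef, Subgroup.mem_comap, QuotientGroup.mk'_apply, (QuotientGroup.eq_one_iff x).2 hx]
    exact Subgroup.one_mem _
  have hDK : ¬ D.subgroupOf M ≤ K := fun h => hcon (Subgroup.map_le_iff_le_comap.2 h)
  have hsup : K ⊔ D.subgroupOf M = ⊤ := by
    apply hK.2
    exact lt_of_le_of_ne le_sup_left (fun h => hDK (h ▸ le_sup_right))
  set K' := K.map M.subtype with hK'
  have hK'M : K' ≤ M := Subgroup.map_subtype_le _
  have hsup' : K' ⊔ D = M := by
    have := congrArg (Subgroup.map M.subtype) hsup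
    rw [Subgroup.map_sup, Subgroup.map_subgroupOf_eq_of_le hDM, ← MonoidHom.range_eq_map,
      Subgroup.range_subtype] at this
    exact this
  have hT₀K : T₀ ≤ K' := hT₀O.trans (Subgroup.map_mono hOK)
  obtain ⟨S₁, hS₁⟩ := exists_isSyl p K'
  have hS₁M : IsSyl p S₁ M := isSyl_of_supplement (hK'M.trans hMD) hsup' hT₀ hT₀K hS₁
  obtain ⟨m, hm, hmT⟩ := hS₁M.exists_conj_eq hT
  have hX := hmin (K'.map (MulAut.conj m).toMonoidHom) (by rw [← hmT]; exact cj_le_cj.2 hS₁.le)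
    (by rw [← cj_eq_self_of_mem hm]; exact cj_le_cj.2 hK'M)
    (by
      conv_lhs => rw [← cj_eq_self_iff.2 (hMD hm)]
      rw [← cj_sup, hsup', cj_eq_self_of_mem hm])
  have hK'eq : K' = M := by
    apply cj_injective m
    rw [hX, cj_eq_self_of_mem hm]
  apply hK.1
  rw [eq_top_iff]
  intro x _
  have hx : (x : G) ∈ K' := by rw [hK'eq]; exact x.2
  obtain ⟨y, hy, hyx⟩ := hx
  have : y = x := Subtype.ext hyx
  rwa [← this]

end fmex2

end Cfsg.Agent.Lib.Helper16
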