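import Mathlib
import Cfsg.Prelude.Def_LocalStructure
import Cfsg.Agent.Lib.Helper16.FMEx2

set_option autoImplicit false
open scoped commutatorElement

namespace Cfsg.Agent.Lib.Helper16

section fmex3
variable {G : Type*} [Group G] {p : ℕ}

theorem exists_frakM [Fact p.Prime] [Finite G] (T : Sylow p G)
    (hPC : ∀ R : Subgroup G, IsPGroup p R → R ≠ ⊥ →
      (T : Subgroup G) ≤ Subgroup.normalizer (R : Set G) →
      Subgroup.normalizer (R : Set G) ∈ charPSubgroups p G)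
    {L : Subgroup G} (hTL : (T : Subgroup G) ≤ L) (hL : L ∈ charPSubgroups p G) :
    ∃ M Ls : Subgroup G, (T : Subgroup G) ≤ M ∧ IsInFrakM p M ∧ (T : Subgroup G) ≤ Ls ∧ Ls ≤ M ∧
      Ls ∈ charPSubgroups p G ∧ largestPReducedOf p L = largestPReducedOf p Ls ∧
      largestPReducedOf p L ≤ largestPReducedOf p M ∧
      L ⊔ Subgroup.centralizer (largestPReducedOf p L : Set G) =
        Ls ⊔ Subgroup.centralizer (largestPReducedOf p L : Set G) := by
  have hsyl : ∀ X : Subgroup G, (T : Subgroup G) ≤ X → IsSyl p (T : Subgroup G) X :=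
    fun X hX => (isSyl_sylow T).of_le hX le_top
  have hT1 : (T : Subgroup G) ≠ ⊥ := by
    intro h
    have := pCoreOf_le_isSyl (hsyl L hTL)
    rw [h] at this
    exact (mem_charP_iff.1 hL).1 (le_bot_iff.1 this)
  have hYne : ∀ X ∈ charPSubgroups p G, (T : Subgroup G) ≤ X → largestPReducedOf p X ≠ ⊥ := by
    intro X hX hTX h
    have := omegaZ_le_yOf (hsyl X hTX) (charP_type hX)
    rw [h] at this
    exact omegaZ_ne_bot T.isPGroup' hT1 (le_bot_iff.1 this)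
  have hmono : ∀ X X' : Subgroup G, (T : Subgroup G) ≤ X → X ≤ X' → X' ∈ charPSubgroups p G →
      largestPReducedOf p X ≤ largestPReducedOf p X' := by
    intro X X' hTX hXX' hX'
    exact yOf_mono (hsyl X' (hTX.trans hXX')) hTX hXX' (inf_le_right.trans (mem_charP_iff.1 hX').2)
  set YL := largestPReducedOf p L with hYL
  set CL := Subgroup.centralizer (YL : Set G) with hCL
  -- the family
  let 𝒳 : Set (Subgroup G) := {X | X ∈ charPSubgroups p G ∧ (T : Subgroup G) ≤ X ∧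
    YL ≤ largestPReducedOf p X ∧ ∀ l ∈ L, ∃ x ∈ X, ∃ c ∈ CL, l = x * c}
  have hL𝒳 : L ∈ 𝒳 := ⟨hL, hTL, le_rfl, fun l hl => ⟨l, hl, 1, CL.one_mem, by simp⟩⟩
  obtain ⟨X₀, hX₀, hmax⟩ := Set.exists_max_image 𝒳 (fun X => Nat.card (largestPReducedOf p X))
    (Set.toFinite _) ⟨L, hL𝒳⟩
  obtain ⟨hX₀c, hTX₀, hYX₀, hLX₀⟩ := hX₀
  set Ys := largestPReducedOf p X₀ with hYs
  set M₁ := Subgroup.normalizer (Ys : Set G) with hM₁
  have hX₀M₁ : X₀ ≤ M₁ := le_normalizer_yOf p X₀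
  have hTM₁ : (T : Subgroup G) ≤ M₁ := hTX₀.trans hX₀M₁
  have hM₁c : M₁ ∈ charPSubgroups p G :=
    hPC Ys (IsElementaryAbelian.isPGroup' (yOf_isElementaryAbelian X₀)) (hYne X₀ hX₀c hTX₀) hTM₁
  have hYM₁ : largestPReducedOf p M₁ = Ys := by
    have h1 : Ys ≤ largestPReducedOf p M₁ := hmono X₀ M₁ hTX₀ hX₀M₁ hM₁c
    have h2 : M₁ ∈ 𝒳 := ⟨hM₁c, hTM₁, hYX₀.trans h1, fun l hl => by
      obtain ⟨x, hx, c, hc, e⟩ := hLX₀ l hl
      exact ⟨x, hX₀M₁ hx, c, hc, e⟩⟩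
    exact (Subgroup.eq_of_le_of_card_ge h1 (hmax M₁ h2)).symm
  set C := Subgroup.centralizer (Ys : Set G) with hC
  have hCM₁ : C ≤ M₁ := Subgroup.centralizer_le_normalizer _
  have hM₁C : M₁ ≤ Subgroup.normalizer (C : Set G) := normalizer_le_normalizer_centralizer Ys
  set T₀ := (T : Subgroup G) ⊓ C with hT₀
  have hT₀s : IsSyl p T₀ C := (hsyl M₁ hTM₁).inf_normal hCM₁ hM₁C
  -- the family of supplements
  let 𝒩 : Set (Subgroup G) := {M | (T : Subgroup G) ≤ M ∧ M ≤ Subgroup.normalizer (T₀ : Set G) ∧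
    M ≤ M₁ ∧ M ⊔ C = M₁}
  have h𝒩 : M₁ ⊓ Subgroup.normalizer (T₀ : Set G) ∈ 𝒩 := by
    refine ⟨le_inf hTM₁ ?_, inf_le_right, inf_le_left, ?_⟩
    · exact (le_inf Subgroup.le_normalizer (hTM₁.trans hM₁C)).trans (normalizer_inf_le _ _)
    · apply le_antisymm (sup_le inf_le_left hCM₁)
      intro m hm
      obtain ⟨n, hn, hnm⟩ := frattini_arg hT₀s hM₁C hm
      have e : m = n⁻¹ * (n * m) := by group
      rw [e, sup_comm]
      exact Subgroup.mul_mem_sup (C.inv_mem hn) ⟨M₁.mul_mem (hCM₁ hn) hm, hnm⟩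
  obtain ⟨M, -, hMmin⟩ := (Set.toFinite 𝒩).exists_le_minimal h𝒩
  obtain ⟨hTM, hMT₀, hMM₁, hMsup⟩ := hMmin.1
  obtain ⟨hYM, hMc, hMcl, hMs⟩ := frakM_of_minimal T hM₁c hTM hMM₁ (by rw [hYM₁]; exact hCM₁)
    (by rw [hYM₁]; exact hMT₀) (by rw [hYM₁]; exact hMsup)
  rw [hYM₁] at hYM hMcl hMs
  have hMC : M ≤ Subgroup.normalizer (C : Set G) := hMM₁.trans hM₁C
  have hCCL : C ≤ CL := Subgroup.centralizer_le (SetLike.coe_subset_coe.2 hYX₀)
  -- decomposition of `L`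
  have hLM : ∀ l ∈ L, ∃ m ∈ M, ∃ c ∈ CL, l = m * c := by
    intro l hl
    obtain ⟨x, hx, c, hc, rfl⟩ := hLX₀ l hl
    have hx' : x ∈ C ⊔ M := by rw [sup_comm, hMsup]; exact hX₀M₁ hx
    have hx'' : x⁻¹ ∈ C ⊔ M := Subgroup.inv_mem _ hx'
    obtain ⟨c', hc', m, hm, e⟩ := (mem_sup_of_le_normalizer hMC).1 hx''
    refine ⟨m⁻¹, M.inv_mem hm, c'⁻¹ * c, CL.mul_mem (CL.inv_mem (hCCL hc')) hc, ?_⟩
    have : x = m⁻¹ * c'⁻¹ := by
      rw [← inv_inv x, e]; group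
    rw [this]; group
  -- uniqueness
  have hU : ∀ X' ∈ charPSubgroups p G, M ≤ X' → X' ≤ M₁ := by
    intro X' hX' hMX'
    have h1 : Ys ≤ largestPReducedOf p X' := by
      rw [← hYM]; exact hmono M X' hTM hMX' hX'
    have h2 : X' ∈ 𝒳 := ⟨hX', hTM.trans hMX', hYX₀.trans h1, fun l hl => by
      obtain ⟨m, hm, c, hc, e⟩ := hLM l hl
      exact ⟨m, hMX' hm, c, hc, e⟩⟩
    have h3 : Ys = largestPReducedOf p X' := Subgroup.eq_of_le_of_card_ge h1 (hmax X' h2)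
    rw [hM₁, h3]
    exact le_normalizer_yOf p X'
  have hfrak : IsInFrakM p M := by
    refine ⟨hMc, ?_, ?_, ?_, ?_, ?_⟩
    · rw [hYM, ← hC, hMsup]
      exact ⟨hM₁c, fun X' hX' hle => le_antisymm (hU X' hX' (hMM₁.trans hle)) hle⟩
    · intro X hX hMX
      rw [hYM, ← hC, hMsup]
      exact (hX.2 M₁ hM₁c (hU X hX.1 hMX)).symm
    · rw [hYM, ← hC, hMsup, hYM₁]
    · rw [hYM]; exact hMcl
    · rw [hYM]
      apply frattini_cond_of_minimal (hsyl M hTM) inf_le_left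
        ((le_inf Subgroup.le_normalizer hMC).trans (normalizer_inf_le _ _)) hMs
        (le_pCoreOf (inf_le_left.trans hTM) hMT₀ (T.isPGroup'.to_le inf_le_left))
      intro X hTX hXM hXsup
      have hX𝒩 : X ∈ 𝒩 := by
        refine ⟨hTX, hXM.trans hMT₀, hXM.trans hMM₁, ?_⟩
        rw [← hMsup, ← hXsup, sup_assoc, sup_eq_right.2 (inf_le_right : M ⊓ C ≤ C)]
      exact le_antisymm hXM (hMmin.2 hX𝒩 hXM)
  -- the subgroup `L*`
  set M' := M ⊓ (L ⊔ CL) with hM'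
  have hTM' : (T : Subgroup G) ≤ M' := le_inf hTM (hTL.trans le_sup_left)
  have hM'c : M' ∈ charPSubgroups p G := charP_of_le hMc (hsyl M hTM) hTM' inf_le_left
  have hfac : M' ⊔ CL = L ⊔ CL := by
    apply le_antisymm (sup_le inf_le_right le_sup_right)
    apply sup_le _ le_sup_right
    intro l hl
    obtain ⟨m, hm, c, hc, rfl⟩ := hLM l hl
    apply Subgroup.mul_mem_sup _ hc
    refine ⟨hm, ?_⟩
    have e : m = (m * c) * c⁻¹ := by group
    rw [e]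
    exact Subgroup.mul_mem_sup hl (CL.inv_mem hc)
  obtain ⟨hr1, hr2⟩ := Cfsg.Agent.S2824.result T L M' hTL hTM' (charP_type hL) (charP_type hM'c)
    _ rfl hfac _ rfl
  set Ls := M' ⊓ Subgroup.normalizer (((T : Subgroup G) ⊓ CL : Subgroup G) : Set G) with hLs
  have hTLs : (T : Subgroup G) ≤ Ls := by
    refine le_inf hTM' ?_
    refine (le_inf Subgroup.le_normalizer ?_).trans (normalizer_inf_le _ _)
    exact (hTL.trans (le_normalizer_yOf p L)).trans (normalizer_le_normalizer_centralizer _)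
  have hLsM : Ls ≤ M := inf_le_left.trans inf_le_left
  refine ⟨M, Ls, hTM, hfrak, hTLs, hLsM, charP_of_le hMc (hsyl M hTM) hTLs hLsM, hr1.symm, ?_, hr2⟩
  rw [hYM]; exact hYX₀

end fmex3

end Cfsg.Agent.Lib.Helper16
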