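import Mathlib
import Cfsg.Prelude.Def_LocalStructure
import Cfsg.Agent.Lib.Helper16.FS3
import Cfsg.Agent.H1.Small2

set_option autoImplicit false
open scoped commutatorElement

namespace Cfsg.Agent.Lib.Helper16

section frat
variable {G : Type*} [Group G] {p : ℕ}

theorem normal_of_commutator_le {X : Type*} [Group X] {N : Subgroup X} (h : commutator X ≤ N) :
    N.Normal := by
  refine ⟨fun m hm g => ?_⟩
  have : g * m * g⁻¹ = ⁅g, m⁆ * m := by simp [commutatorElement_def]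
  rw [this]
  exact N.mul_mem (h (Subgroup.commutator_mem_commutator (Subgroup.mem_top g) (Subgroup.mem_top m))) hm

theorem commutatorElement_mul_central {X : Type*} [Group X] {m m' w w' : X}
    (h1 : ∀ x : X, x * w = w * x) (h2 : ∀ x : X, x * w' = w' * x) :
    ⁅m * w, m' * w'⁆ = ⁅m, m'⁆ := by
  simp only [commutatorElement_def]
  calc m * w * (m' * w') * (m * w)⁻¹ * (m' * w')⁻¹
      = m * (w * m') * (w' * w⁻¹) * m⁻¹ * w'⁻¹ * m'⁻¹ := by group
    _ = m * (m' * w) * (w⁻¹ * w') * m⁻¹ * w'⁻¹ * m'⁻¹ := by rw [h1 m', h2 w⁻¹]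
    _ = m * m' * (w' * m⁻¹) * w'⁻¹ * m'⁻¹ := by group
    _ = m * m' * (m⁻¹ * w') * w'⁻¹ * m'⁻¹ := by rw [h2 m⁻¹]
    _ = m * m' * m⁻¹ * m'⁻¹ := by group

/-- criterion: a subgroup `N` of `G` contains `Φ(P)`. -/
theorem frattini_map_le [Fact p.Prime] {P N : Subgroup G} [Finite P]
    (hc : ⁅P, P⁆ ≤ N) (hpow : ∀ x ∈ P, x ^ p ∈ N) : (frattini ↥P).map P.subtype ≤ N := by
  rw [Subgroup.map_le_iff_le_comap]
  have h1 : commutator P ≤ N.comap P.subtype := by
    rw [← Subgroup.map_le_iff_le_comap, Subgroup.map_subtype_commutator]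
    exact hc
  have := normal_of_commutator_le h1
  exact Cfsg.H1.frattini_pgroup_le p _ h1 (fun x => hpow x x.2)

/-- S2818 -/
theorem frattini_comm_of_comm_le_omega [Fact p.Prime] {P H : Subgroup G} [Finite P]
    (h : ⁅P, H⁆ ≤ omegaOne p (P ⊓ Subgroup.centralizer (P : Set G))) :
    ⁅(frattini ↥P).map P.subtype, H⁆ = ⊥ := by
  rw [Subgroup.commutator_eq_bot_iff_le_centralizer]
  have hZ : P ⊓ Subgroup.centralizer (P : Set G) ≤
      Subgroup.centralizer ((P ⊓ Subgroup.centralizer (P : Set G) : Subgroup G) : Set G) :=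
    inf_le_right.trans (Subgroup.centralizer_le (SetLike.coe_subset_coe.2 inf_le_left))
  have hel := omegaOne_isElementaryAbelian (p := p) hZ
  have hw : ∀ x ∈ P, ∀ g ∈ H, ∃ w, g * x * g⁻¹ = x * w ∧ w ^ p = 1 ∧ w ∈ P ∧
      w ∈ Subgroup.centralizer (P : Set G) := by
    intro x hx g hg
    refine ⟨⁅x⁻¹, g⁆, by simp only [commutatorElement_def]; group, ?_, ?_⟩
    · exact hel.2 _ (h (Subgroup.commutator_mem_commutator (P.inv_mem hx) hg))
    · exact (omegaOne_le _ (h (Subgroup.commutator_mem_commutator (P.inv_mem hx) hg)))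
  apply frattini_map_le (p := p)
  · rw [Subgroup.commutator_le]
    intro a ha b hb
    rw [Subgroup.mem_centralizer_iff]
    intro g hg
    obtain ⟨w, e1, -, hwP, hwc⟩ := hw a ha g hg
    obtain ⟨w', e2, -, hwP', hwc'⟩ := hw b hb g hg
    have h1 : g * ⁅a, b⁆ * g⁻¹ = ⁅a, b⁆ := by
      have e3 : g * ⁅a, b⁆ * g⁻¹ = ⁅g * a * g⁻¹, g * b * g⁻¹⁆ := by
        simp only [commutatorElement_def]; group
      rw [e3, e1, e2]
      have e4 := commutatorElement_mul_central (X := P) (m := ⟨a, ha⟩) (m' := ⟨b, hb⟩)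
        (w := ⟨w, hwP⟩) (w' := ⟨w', hwP'⟩)
        (fun x => Subtype.ext ((Subgroup.mem_centralizer_iff.1 hwc) x x.2))
        (fun x => Subtype.ext ((Subgroup.mem_centralizer_iff.1 hwc') x x.2))
      exact congrArg Subtype.val e4
    calc g * ⁅a, b⁆ = (g * ⁅a, b⁆ * g⁻¹) * g := by group
      _ = ⁅a, b⁆ * g := by rw [h1]
  · intro x hx
    rw [Subgroup.mem_centralizer_iff]
    intro g hg
    obtain ⟨w, e1, hwp, -, hwc⟩ := hw x hx g hg
    have h1 : g * x ^ p * g⁻¹ = x ^ p := by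
      rw [← conj_pow, e1]
      have : Commute x w := (Subgroup.mem_centralizer_iff.1 hwc) x hx
      rw [this.mul_pow, hwp, mul_one]
    calc g * x ^ p = (g * x ^ p * g⁻¹) * g := by group
      _ = x ^ p * g := by rw [h1]

/-- if `[P,Y]` has exponent `p` then `[Φ(P), Y] ≤ P'`. -/
theorem comm_frattini_le_commutator [Fact p.Prime] {P Y : Subgroup G} [Finite P]
    (hYP : Y ≤ Subgroup.normalizer (P : Set G)) (hel : ∀ w ∈ ⁅P, Y⁆, w ^ p = 1) :
    ⁅Y, (frattini ↥P).map P.subtype⁆ ≤ ⁅P, P⁆ := by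
  let N : Subgroup P := ⨅ y : Y,
    MonoidHom.eqLocus (Abelianization.of.comp (cjHom P ⟨y, hYP y.2⟩)) Abelianization.of
  have hN : ∀ x : P, x ∈ N ↔ ∀ y : Y,
      Abelianization.of (cjHom P ⟨y, hYP y.2⟩ x) = Abelianization.of x := by
    intro x
    simp only [N, Subgroup.mem_iInf]
    rfl
  have h1 : commutator P ≤ N := by
    intro c hc
    rw [hN]
    intro y
    have e1 : Abelianization.of c = 1 := by
      rw [← MonoidHom.mem_ker, Abelianization.ker_of]; exact hc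
    have e2 := Abelianization.commutator_subset_ker
      (Abelianization.of.comp (cjHom P ⟨y, hYP y.2⟩)) hc
    rw [MonoidHom.mem_ker, MonoidHom.comp_apply] at e2
    rw [e1, e2]
  have hNn := normal_of_commutator_le h1
  have h2 : frattini P ≤ N := by
    apply Cfsg.H1.frattini_pgroup_le p _ h1
    intro x
    rw [hN]
    intro y
    have hwm : ⁅(x : G)⁻¹, (y : G)⁆ ∈ ⁅P, Y⁆ :=
      Subgroup.commutator_mem_commutator (P.inv_mem x.2) y.2
    have hwP : ⁅(x : G)⁻¹, (y : G)⁆ ∈ P := commutator_le_left_of_le_normalizer hYP hwm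
    have e1 : cjHom P ⟨y, hYP y.2⟩ x = x * ⟨⁅(x : G)⁻¹, (y : G)⁆, hwP⟩ := by
      apply Subtype.ext
      simp only [coe_cjHom, Subgroup.coe_mul, commutatorElement_def]
      group
    have e2 : (⟨⁅(x : G)⁻¹, (y : G)⁆, hwP⟩ : P) ^ p = 1 := Subtype.ext (hel _ hwm)
    rw [map_pow, map_pow, e1, map_mul, mul_pow, ← map_pow _ (⟨⁅(x : G)⁻¹, (y : G)⁆, hwP⟩ : P), e2,
      map_one, mul_one, map_pow]
  rw [Subgroup.commutator_le]
  intro y hy x hx
  obtain ⟨x', hx', rfl⟩ := hx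
  have h3 := (hN x').1 (h2 hx') ⟨y, hy⟩
  have hmem : ⁅y, (x' : G)⁆ ∈ P := by
    have := commutator_le_left_of_le_normalizer hYP
      (Subgroup.commutator_mem_commutator x'.2 hy)
    rw [← commutatorElement_inv]
    exact P.inv_mem this
  show ⁅y, (x' : G)⁆ ∈ ⁅P, P⁆
  rw [mem_comm_iff hmem]
  have e3 : (⟨⁅y, (x' : G)⁆, hmem⟩ : P) = cjHom P ⟨y, hYP hy⟩ x' * x'⁻¹ := by
    apply Subtype.ext
    simp only [coe_cjHom, Subgroup.coe_mul, commutatorElement_def, Subgroup.coe_inv]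
  rw [e3, map_mul, h3, ← map_mul, mul_inv_cancel, map_one]

/-- S2819 -/
theorem pResOf_normalClosure_le_centralizer_frattini [Finite G] [Fact p.Prime] {P H Y : Subgroup G}
    (hP : IsPGroup p ↥P) (hH : H ≤ Subgroup.normalizer (P : Set G)) (hYH : Y ≤ H)
    (hYc : Y ≤ Subgroup.centralizer ((⁅P, P⁆ : Subgroup G) : Set G))
    (hel : IsElementaryAbelian p ⁅P, Y⁆) :
    (pResidual p ↥(⨆ k : H, Y.map (MulAut.conj (k : G)).toMonoidHom)).map
      (⨆ k : H, Y.map (MulAut.conj (k : G)).toMonoidHom).subtype ≤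
      Subgroup.centralizer (((frattini ↥P).map P.subtype : Subgroup G) : Set G) := by
  set Φ := (frattini ↥P).map P.subtype with hΦ
  set P' := ⁅P, P⁆ with hP'
  set NY := ⨆ k : H, Y.map (MulAut.conj (k : G)).toMonoidHom with hNY
  have hnΦ : Subgroup.normalizer (P : Set G) ≤ Subgroup.normalizer (Φ : Set G) :=
    le_normalizer_map_subtype_of_characteristic _
  have hnP' : Subgroup.normalizer (P : Set G) ≤ Subgroup.normalizer (P' : Set G) :=
    (le_inf le_rfl le_rfl).trans (normalizer_inf_le_commutator P P)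
  have h1 : ⁅Y, Φ⁆ ≤ P' := comm_frattini_le_commutator (hYH.trans hH) hel.2
  have hNYH : NY ≤ H := iSup_cj_le hYH
  have h2 : ∀ k : H, ⁅Y.map (MulAut.conj (k : G)).toMonoidHom, Φ⁆ ≤ P' := by
    intro k
    have e1 := cj_eq_self_iff.2 (hnΦ (hH k.2))
    have e2 := cj_eq_self_iff.2 (hnP' (hH k.2))
    rw [← e1, ← e2, ← Subgroup.map_commutator]
    exact cj_le_cj.2 h1
  have h3 : ⁅NY, Φ⁆ ≤ P' :=
    iSup_commutator_le_of_le_normalizer _ _ _ (hNYH.trans (hH.trans hnP')) h2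
  have h4 : NY ≤ Subgroup.centralizer (P' : Set G) := by
    apply iSup_le
    intro k
    have e2 := cj_eq_self_iff.2 (hnP' (hH k.2))
    rw [← e2, centralizer_cj]
    exact cj_le_cj.2 hYc
  rw [pResidual_map_subtype, Subgroup.closure_le]
  rintro x ⟨hx, hc⟩
  set A := Subgroup.zpowers x with hA
  have hANY : A ≤ NY := by rwa [hA, Subgroup.zpowers_le]
  have hAΦ : A ≤ Subgroup.normalizer (Φ : Set G) := hANY.trans (hNYH.trans (hH.trans hnΦ))
  have hΦP : Φ ≤ P := Subgroup.map_subtype_le _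
  have hcop : (Nat.card A).Coprime (Nat.card Φ) := by
    obtain ⟨n, hn⟩ := IsPGroup.iff_card.1 (hP.to_le hΦP)
    rw [hn, hA, Nat.card_zpowers]
    exact Nat.Coprime.pow_right n hc
  have h5 := Cfsg.H1.coprime_commutator_stable A Φ hAΦ hcop (Or.inl inferInstance)
  have h6 : ⁅Φ, A⁆ = ⊥ := by
    rw [← h5]
    have h7 : ⁅Φ, A⁆ ≤ P' := by
      rw [Subgroup.commutator_comm]
      exact (Subgroup.commutator_mono hANY le_rfl).trans h3
    have h8 : ⁅P', A⁆ = ⊥ := by
      rw [Subgroup.commutator_comm]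
      exact Subgroup.commutator_eq_bot_iff_le_centralizer.2 (hANY.trans h4)
    exact le_bot_iff.1 ((Subgroup.commutator_mono h7 le_rfl).trans h8.le)
  rw [Subgroup.commutator_comm, Subgroup.commutator_eq_bot_iff_le_centralizer] at h6
  exact h6 (Subgroup.mem_zpowers x)

end frat

end Cfsg.Agent.Lib.Helper16
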