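import Mathlib
import Cfsg.Prelude.Def_LocalStructure
import Cfsg.Agent.Lib.Helper16.Frat
import Cfsg.Agent.H1.CoprimeFrattini

set_option autoImplicit false
open scoped commutatorElement

namespace Cfsg.Agent.Lib.Helper16

section frat2
variable {G : Type*} [Group G] {p : ℕ}

theorem commutator_le_frattini_map [Fact p.Prime] {A : Subgroup G} [Finite A] (hA : IsPGroup p A) :
    ⁅A, A⁆ ≤ (frattini ↥A).map A.subtype := by
  rw [← Subgroup.map_subtype_commutator]
  exact Subgroup.map_mono (Cfsg.H1.frattini_pgroup_ge p hA).1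

/-- a `p'`-group acting trivially on `A/A'` centralises the `p`-group `A`. -/
theorem le_centralizer_of_comm_le_commutator [Finite G] [Fact p.Prime] {A X : Subgroup G}
    (hA : IsPGroup p A) (hXA : X ≤ Subgroup.normalizer (A : Set G)) (hX : (Nat.card X).Coprime p)
    (h : ⁅X, A⁆ ≤ ⁅A, A⁆) : X ≤ Subgroup.centralizer (A : Set G) := by
  apply Cfsg.H1.coprime_trivial_on_frattini_quotient X A hXA
  · have h1 : IsPGroup p (frattini ↥A) := hA.to_subgroup _
    obtain ⟨n, hn⟩ := IsPGroup.iff_card.1 h1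
    rw [hn]
    exact Nat.Coprime.pow_right n hX
  · intro a ha k hk
    exact commutator_le_frattini_map hA (h (Subgroup.commutator_mem_commutator ha hk))

/-- a group generated by `p`-subgroups whose `O^p` acts "centrally modulo a `p`-group" is a `p`-group. -/
theorem isPGroup_iSup_of_comm_le [Finite G] [Fact p.Prime] {ι : Sort*} (Yf : ι → Subgroup G)
    (hY : ∀ i, IsPGroup p (Yf i)) {P₀ : Subgroup G} (hP₀ : IsPGroup p P₀)
    (hn : (⨆ i, Yf i) ≤ Subgroup.normalizer (P₀ : Set G))
    (hc : ⁅⨆ i, Yf i, (pResidual p ↥(⨆ i, Yf i)).map (⨆ i, Yf i).subtype⁆ ≤ P₀) :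
    IsPGroup p ↥(⨆ i, Yf i) := by
  set K := ⨆ i, Yf i with hK
  set R := (pResidual p ↥K).map K.subtype with hR
  have hRK : R ≤ K := pResidual_map_subtype_le K
  obtain ⟨T, hT⟩ := exists_isSyl p K
  have h1 : P₀ ⊓ K ≤ T := by
    refine le_trans ?_ (pCoreOf_le_isSyl hT)
    apply le_pCoreOf inf_le_right _ (hP₀.to_le inf_le_left)
    exact (le_inf hn Subgroup.le_normalizer).trans (normalizer_inf_le _ _)
  have h2 : ⁅T, R⁆ ≤ T := by
    refine le_trans (le_inf ?_ ?_) h1
    · exact (Subgroup.commutator_mono hT.le le_rfl).trans hc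
    · exact (Subgroup.commutator_mono hT.le hRK).trans (Subgroup.commutator_le_self K)
  have h3 : K ≤ Subgroup.normalizer (T : Set G) := by
    conv_lhs => rw [← sup_pResidual_of_isSyl hT]
    exact sup_le Subgroup.le_normalizer (le_normalizer_of_commutator_le h2)
  have h4 : IsPClosed p ↥K := isPClosed_of_isSyl_normal hT h3
  have h5 : K ≤ pCoreOf p K := by
    conv_lhs => rw [hK]
    apply iSup_le
    intro i
    exact pgroup_le_pCoreOf_of_isPClosed h4 (hY i) (le_iSup Yf i)
  exact (pCoreOf_isPGroup K).to_le h5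

end frat2

end Cfsg.Agent.Lib.Helper16
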