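import Mathlib
import Cfsg.Prelude.Def_LocalStructure
import Cfsg.Agent.Lib.Helper16.YL
import Cfsg.Agent.Lib.Helper16.FS3
import Cfsg.Agent.Lib.Helper16.Asym2

set_option autoImplicit false
open scoped commutatorElement

namespace Cfsg.Agent.Lib.Helper16

section qfit
variable {G : Type*} [Group G] {p : ℕ}

theorem pCore_quotient_eq_bot_of_redFor [Fact p.Prime] [Finite G] {Y A : Subgroup G}
    (h : RedFor p Y A) [hn : ((Subgroup.centralizer (Y : Set G)).subgroupOf A).Normal] :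
    pCore p (↥A ⧸ (Subgroup.centralizer (Y : Set G)).subgroupOf A) = ⊥ := by
  set C := Subgroup.centralizer (Y : Set G) with hC
  set π := QuotientGroup.mk' (C.subgroupOf A) with hπ
  have hc := pCore_characteristic (G := ↥A ⧸ C.subgroupOf A) (p := p)
  have hDn : ((pCore p (↥A ⧸ C.subgroupOf A)).comap π).Normal := inferInstance
  set D' := (pCore p (↥A ⧸ C.subgroupOf A)).comap π with hD'
  have h1 : D'.map A.subtype ≤ C := by
    apply h _ (Subgroup.map_subtype_le _)
    · have := Subgroup.le_normalizer_map (H := D') A.subtype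
      rw [Subgroup.normalizer_eq_top_iff.2 hDn] at this
      refine le_trans ?_ this
      intro x hx
      exact ⟨⟨x, hx⟩, trivial, rfl⟩
    · rintro _ ⟨d, hd, rfl⟩
      obtain ⟨k, hk⟩ := (pCore_isPGroup (p := p) (G := ↥A ⧸ C.subgroupOf A)) ⟨π d, hd⟩
      refine ⟨k, ?_⟩
      have hk' : (π d) ^ p ^ k = 1 := congrArg Subtype.val hk
      rw [← map_pow, hπ, QuotientGroup.mk'_apply, QuotientGroup.eq_one_iff] at hk'
      exact hk'
  rw [eq_bot_iff]
  intro x hx
  obtain ⟨a, rfl⟩ := QuotientGroup.mk'_surjective _ x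
  rw [Subgroup.mem_bot, QuotientGroup.mk'_apply, QuotientGroup.eq_one_iff]
  exact h1 ⟨a, hx, rfl⟩

/-- a subgroup of `A` acting as a `p`-group modulo `C`, normalised by the preimage of `F*(A/C)`, lies in
`C` provided `O_p(A/C) = 1`. -/
theorem le_of_normalized_by_genFitting [Fact p.Prime] [Finite G] {A C X : Subgroup G}
    [hn : (C.subgroupOf A).Normal] (hO : pCore p (↥A ⧸ C.subgroupOf A) = ⊥) (hXA : X ≤ A)
    (hF : ((generalizedFittingSubgroup (↥A ⧸ C.subgroupOf A)).comap
      (QuotientGroup.mk' (C.subgroupOf A))).map A.subtype ≤ Subgroup.normalizer (X : Set G))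
    (hX : ∀ x ∈ X, ∃ k : ℕ, x ^ p ^ k ∈ C) : X ≤ C := by
  set π := QuotientGroup.mk' (C.subgroupOf A) with hπ
  set Fs := generalizedFittingSubgroup (↥A ⧸ C.subgroupOf A) with hFs
  have hFsn : Fs.Normal := inferInstance
  set Xb := (X.subgroupOf A).map π with hXb
  have hXbp : IsPGroup p Xb := by
    rintro ⟨_, x, hx, rfl⟩
    obtain ⟨k, hk⟩ := hX x hx
    refine ⟨k, ?_⟩
    apply Subtype.ext
    show (π x) ^ p ^ k = 1
    rw [← map_pow, hπ, QuotientGroup.mk'_apply, QuotientGroup.eq_one_iff]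
    exact hk
  have hFX : Fs ≤ Subgroup.normalizer (Xb : Set (↥A ⧸ C.subgroupOf A)) := by
    intro f hf
    obtain ⟨a, rfl⟩ := QuotientGroup.mk'_surjective _ f
    rw [← cj_eq_self_iff]
    apply cj_eq_of_le
    rintro _ ⟨_, ⟨x, hx, rfl⟩, rfl⟩
    have ha : (a : G) ∈ Subgroup.normalizer (X : Set G) := hF ⟨a, hf, rfl⟩
    refine ⟨a * x * a⁻¹, ?_, ?_⟩
    · exact (Subgroup.mem_normalizer_iff.1 ha x).1 hx
    · simp [hπ]
  have h1 : Xb ⊓ Fs = ⊥ := by
    have hsn : (Xb ⊓ Fs).IsSubnormal := by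
      apply Cfsg.H9.subnormal_step inf_le_right _ hFsn.isSubnormal
      exact (le_inf hFX Subgroup.le_normalizer).trans (normalizer_inf_le _ _)
    have := le_pCore_of_isSubnormal hsn (hXbp.to_le inf_le_left)
    rw [hO] at this
    exact le_bot_iff.1 this
  have h2 : Xb ≤ Subgroup.centralizer (Fs : Set (↥A ⧸ C.subgroupOf A)) := by
    rw [← Subgroup.commutator_eq_bot_iff_le_centralizer, ← le_bot_iff, ← h1]
    apply le_inf (commutator_le_left_of_le_normalizer hFX)
    rw [Subgroup.commutator_comm]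
    exact commutator_le_left_of_le_normalizer Subgroup.le_normalizer_of_normal
  have h3 : Xb = ⊥ := eq_bot_of_le_centralizer_genFitting hO hXbp h2
  intro x hx
  have h4 : π ⟨x, hXA hx⟩ ∈ Xb := ⟨⟨x, hXA hx⟩, hx, rfl⟩
  rw [h3, Subgroup.mem_bot, hπ, QuotientGroup.mk'_apply, QuotientGroup.eq_one_iff] at h4
  exact h4

end qfit

end Cfsg.Agent.Lib.Helper16
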