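import Mathlib
import Cfsg.Prelude.Def_LocalStructure
import Cfsg.Agent.Lib.Helper16.Subn2

set_option autoImplicit false
open scoped commutatorElement

namespace Cfsg.Agent.Lib.Helper16

section subn3
variable {H : Type*} [Group H] {p : ℕ}

/-- `O^p(K P) = O^p(K)` for `K` subnormal and `P` a normal `p`-subgroup. -/
theorem pResOf_sup_normal_pgroup {K P : Subgroup H} (hK : K.IsSubnormal) (hPn : P.Normal)
    (hP : IsPGroup p P) :
    (pResidual p ↥(K ⊔ P)).map (K ⊔ P).subtype = (pResidual p ↥K).map K.subtype := by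
  induction hK with
  | top =>
    have : (⊤ : Subgroup H) ⊔ P = ⊤ := top_sup_eq P
    rw [this]
  | step K K' hle _ hn ih =>
    apply le_antisymm _ (pResidual_map_subtype_mono le_sup_left)
    conv_lhs => rw [pResidual_map_subtype]
    rw [Subgroup.closure_le]
    rintro x ⟨hx, hc⟩
    have hx1 : x ∈ K' := by
      have h1 : x ∈ (pResidual p ↥(K' ⊔ P)).map (K' ⊔ P).subtype :=
        mem_pResOf_of_coprime (sup_le_sup_right hle P hx) hc
      rw [ih] at h1
      exact pResidual_map_subtype_le K' h1
    obtain ⟨k, hk, q, hq, rfl⟩ := Subgroup.mem_sup_of_normal_right.1 hx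
    have hq' : q ∈ P ⊓ K' := by
      refine ⟨hq, ?_⟩
      have e : q = k⁻¹ * (k * q) := by group
      rw [e]
      exact K'.mul_mem (K'.inv_mem (hle hk)) hx1
    have hKn : K' ≤ Subgroup.normalizer (K : Set H) :=
      (Subgroup.normal_subgroupOf_iff_le_normalizer hle).1 hn
    have h2 : k * q ∈ K := mem_of_coprime_of_mem_sup (hP.to_le inf_le_left)
      (inf_le_right.trans hKn) (Subgroup.mul_mem_sup hk hq') hc
    exact mem_pResOf_of_coprime h2 hc

end subn3

end Cfsg.Agent.Lib.Helper16
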