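import Cfsg.Agent.Lib.Helper16.YL
import Cfsg.Agent.Lib.Helper16.Subn2
import Cfsg.Agent.Lib.Helper16.Asym
import Cfsg.Agent.Lib.Helper16.Large
import Cfsg.Agent.H1.CoprimeAb

set_option autoImplicit false
open Cfsg
open scoped commutatorElement

namespace Cfsg.Agent.Lib.Helper16

section ysub
variable {G : Type*} [Group G] {p : ℕ}

theorem RedFor.cj {Y A : Subgroup G} (h : RedFor p Y A) (g : G) :
    RedFor p (Y.map (MulAut.conj g).toMonoidHom) (A.map (MulAut.conj g).toMonoidHom) := by
  intro D hDA hAD hD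
  rw [centralizer_cj]
  have h1 : D.map (MulAut.conj g⁻¹).toMonoidHom ≤ Subgroup.centralizer (Y : Set G) := by
    apply h
    · rw [cj_le_iff, inv_inv]; exact hDA
    · rw [normalizer_cj, ← cj_le_iff]; exact hAD
    · rintro _ ⟨d, hd, rfl⟩
      obtain ⟨k, hk⟩ := hD d hd
      refine ⟨k, ?_⟩
      rw [centralizer_cj, mem_cj] at hk
      rw [← map_pow]
      simpa using hk
  rw [cj_le_iff, inv_inv] at h1
  exact h1

/-- `Y_L` is normalized by `N(L)`. -/
theorem normalizer_le_normalizer_yOf [Fact p.Prime] [Finite G] (L : Subgroup G) :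
    Subgroup.normalizer (L : Set G) ≤ Subgroup.normalizer (largestPReducedOf p L : Set G) := by
  intro g hg
  have hL : L.map (MulAut.conj g).toMonoidHom = L := cj_eq_self_iff.2 hg
  rw [← cj_eq_self_iff]
  apply cj_eq_of_le
  have hle : (largestPReducedOf p L).map (MulAut.conj g).toMonoidHom ≤ L := by
    conv_rhs => rw [← hL]
    rw [cj_le_cj]; exact yOf_le p L
  apply le_yOf hle
  rw [isPReducedNormal_subgroupOf_iff' hle]
  refine ⟨?_, isElementaryAbelian_cj (yOf_isElementaryAbelian L) g, ?_⟩
  · rw [normalizer_cj]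
    conv_lhs => rw [← hL]
    rw [cj_le_cj]; exact le_normalizer_yOf p L
  · have := (yOf_redFor (p := p) L).cj g
    rwa [hL] at this

theorem yOf_top [Fact p.Prime] [Finite G] :
    largestPReducedOf p (⊤ : Subgroup G) = largestPReduced p G := by
  apply le_antisymm
  · apply le_sSup
    have h := (isPReducedNormal_subgroupOf_iff' (p := p) (le_top : largestPReducedOf p (⊤ : Subgroup G) ≤ ⊤)).1
      (yOf_isPReduced ⊤)
    change IsPReducedNormal p _
    rw [isPReducedNormal_iff]
    refine ⟨Subgroup.normalizer_eq_top_iff.1 (top_le_iff.1 h.1), h.2.1, ?_⟩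
    intro D hD hDp
    exact h.2.2 D le_top Subgroup.le_normalizer_of_normal hDp
  · apply le_yOf le_top
    rw [isPReducedNormal_subgroupOf_iff' le_top]
    have h := (isPReducedNormal_iff (p := p)).1 (largestPReduced_isPReducedNormal (L := G))
    have := h.1
    refine ⟨Subgroup.le_normalizer_of_normal, h.2.1, ?_⟩
    intro D _ hD hDp
    exact h.2.2 D (Subgroup.normalizer_eq_top_iff.1 (top_le_iff.1 hD)) hDp

theorem mem_centralizer_iff_comm_zpowers_bot {Q : Subgroup G} {g : G} :
    g ∈ Subgroup.centralizer (Q : Set G) ↔ ⁅Q, Subgroup.zpowers g⁆ = ⊥ := by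
  rw [Subgroup.commutator_eq_bot_iff_le_centralizer, ← Subgroup.le_centralizer_iff,
    Subgroup.zpowers_le]

theorem commutatorElement_mul_of_mem_centralizer {W : Subgroup G} {w a c : G} (hw : w ∈ W)
    (hc : c ∈ Subgroup.centralizer (W : Set G)) : ⁅w, a * c⁆ = ⁅w, a⁆ := by
  have h1 : w⁻¹ * c = c * w⁻¹ := (Subgroup.mem_centralizer_iff.1 hc w⁻¹ (W.inv_mem hw))
  rw [commutatorElement_def, commutatorElement_def]
  calc w * (a * c) * w⁻¹ * (a * c)⁻¹ = w * a * (c * w⁻¹) * c⁻¹ * a⁻¹ := by group
    _ = w * a * (w⁻¹ * c) * c⁻¹ * a⁻¹ := by rw [h1]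
    _ = w * a * w⁻¹ * a⁻¹ := by group

/-- normal case of `C_L(Y_K) ≤ C_L(Y_L)`. -/
theorem inf_centralizer_yOf_le_of_normal [Fact p.Prime] [Finite G] {L K : Subgroup G} (hLK : L ≤ K)
    (hn : K ≤ Subgroup.normalizer (L : Set G)) :
    L ⊓ Subgroup.centralizer (largestPReducedOf p K : Set G) ≤
      Subgroup.centralizer (largestPReducedOf p L : Set G) := by
  set W := largestPReducedOf p L with hW
  have hWL : W ≤ L := yOf_le p L
  have hKW : K ≤ Subgroup.normalizer (W : Set G) := hn.trans (normalizer_le_normalizer_yOf L)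
  have hWe : IsElementaryAbelian p W := yOf_isElementaryAbelian L
  have hred : RedFor p W L := yOf_redFor L
  obtain ⟨W', ⟨hW'W, hKW', hP⟩, hmin⟩ := Set.Finite.exists_minimal
    (s := {X : Subgroup G | X ≤ W ∧ K ≤ Subgroup.normalizer (X : Set G) ∧
      ∀ x ∈ L, (orderOf x).Coprime p → x ∈ Subgroup.centralizer (X : Set G) →
        x ∈ Subgroup.centralizer (W : Set G)})
    (Set.toFinite _) ⟨W, le_rfl, hKW, fun x _ _ h => h⟩
  have hW'e : IsElementaryAbelian p W' := isElementaryAbelian_of_le hWe hW'W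
  have hW'K : W' ≤ K := hW'W.trans (hWL.trans hLK)
  have hact : ∀ E : Subgroup G, E ≤ L → L ≤ Subgroup.normalizer (E : Set G) →
      (∀ e ∈ E, ∃ k : ℕ, e ^ p ^ k ∈ Subgroup.centralizer (W' : Set G)) →
      E ≤ Subgroup.centralizer (W : Set G) := by
    intro E hEL hLE hE
    apply hred E hEL hLE
    intro e he
    obtain ⟨a, ha⟩ := exists_pow_coprime (p := p) e
    refine ⟨a, hP _ (L.pow_mem (hEL he) _) ha ?_⟩
    obtain ⟨k, hk⟩ := hE _ (E.pow_mem he (p ^ a))
    exact mem_of_pow_mem_of_coprime hk (Nat.Coprime.pow_right k ha)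
  have hW'Y : W' ≤ largestPReducedOf p K := by
    apply le_yOf hW'K
    rw [isPReducedNormal_subgroupOf_iff' hW'K]
    refine ⟨hKW', hW'e, ?_⟩
    intro D hDK hKD hD
    set W'' := W' ⊓ Subgroup.centralizer (D : Set G) with hW''
    have hKW'' : K ≤ Subgroup.normalizer (W'' : Set G) :=
      (le_inf hKW' (hKD.trans (normalizer_le_normalizer_centralizer D))).trans
        (normalizer_inf_le _ _)
    have hE : L ⊓ D ≤ Subgroup.centralizer (W : Set G) := by
      apply hact _ inf_le_left
      · exact (le_inf Subgroup.le_normalizer (hLK.trans hKD)).trans (normalizer_inf_le _ _)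
      · intro e he; exact hD e he.2
    have key : W' ≤ W'' := by
      apply hmin ⟨inf_le_left.trans hW'W, hKW'', ?_⟩ inf_le_left
      intro x hxL hxc hxW''
      apply hP x hxL hxc
      rw [mem_centralizer_iff_comm_zpowers_bot]
      by_contra hU
      set A := Subgroup.zpowers x with hA
      set U := ⁅W', A⁆ with hUdef
      have hAL : A ≤ L := Subgroup.zpowers_le.2 hxL
      have hAW' : A ≤ Subgroup.normalizer (W' : Set G) := (hAL.trans hLK).trans hKW'
      have hUW' : U ≤ W' := commutator_le_left_of_le_normalizer hAW'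
      have hDU : D ≤ Subgroup.normalizer (U : Set G) := by
        intro d hd
        rw [← cj_eq_self_iff]
        apply cj_eq_of_le
        rw [hUdef, Subgroup.map_commutator, Subgroup.commutator_le]
        rintro _ ⟨w, hw, rfl⟩ _ ⟨a, ha, rfl⟩
        have hw' : d * w * d⁻¹ ∈ W' := (Subgroup.mem_normalizer_iff.1 (hKW' (hDK hd)) w).1 hw
        have hc : a⁻¹ * (d * a * d⁻¹) ∈ L ⊓ D := by
          refine ⟨L.mul_mem (L.inv_mem (hAL ha))
            ((Subgroup.mem_normalizer_iff.1 (hn (hDK hd)) a).1 (hAL ha)), ?_⟩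
          have h1 : a⁻¹ * d * a⁻¹⁻¹ ∈ D :=
            (Subgroup.mem_normalizer_iff.1 (hKD (hLK (L.inv_mem (hAL ha)))) d).1 hd
          have h2 : a⁻¹ * (d * a * d⁻¹) = (a⁻¹ * d * a⁻¹⁻¹) * d⁻¹ := by group
          rw [h2]
          exact D.mul_mem h1 (D.inv_mem hd)
        have hcW : a⁻¹ * (d * a * d⁻¹) ∈ Subgroup.centralizer (W' : Set G) :=
          Subgroup.centralizer_le (SetLike.coe_subset_coe.2 hW'W) (hE hc)
        have e : d * a * d⁻¹ = a * (a⁻¹ * (d * a * d⁻¹)) := by group
        simp only [MulEquiv.coe_toMonoidHom, MulAut.conj_apply]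
        rw [e, commutatorElement_mul_of_mem_centralizer hw' hcW]
        exact Subgroup.commutator_mem_commutator hw' ha
      obtain ⟨P₁, hP₁⟩ := exists_isSyl p D
      have hW'p : IsPGroup p W' := IsElementaryAbelian.isPGroup' hW'e
      have hne := inf_centralizer_ne_bot (Y := U) (Q := P₁) (hW'p.to_le hUW') hP₁.isPGroup hU
        (hP₁.le.trans hDU)
      obtain ⟨⟨z, hz⟩, hz1⟩ := Subgroup.ne_bot_iff_exists_ne_one.1 hne
      have hzW' : z ∈ W' := hUW' hz.1
      have hDz : D ≤ Subgroup.centralizer (Subgroup.zpowers z : Set G) := by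
        apply le_of_pow_mem hP₁ hD
        · exact Subgroup.centralizer_le (SetLike.coe_subset_coe.2 (Subgroup.zpowers_le.2 hzW'))
        · rw [Subgroup.le_centralizer_iff, Subgroup.zpowers_le]
          exact hz.2
      have hzD : z ∈ Subgroup.centralizer (D : Set G) := by
        rw [Subgroup.le_centralizer_iff, Subgroup.zpowers_le] at hDz
        exact hDz
      have hzW'' : z ∈ W'' := ⟨hzW', hzD⟩
      have hzA : z ∈ Subgroup.centralizer (A : Set G) := by
        have h1 : W'' ≤ Subgroup.centralizer (A : Set G) := by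
          rw [Subgroup.le_centralizer_iff, hA, Subgroup.zpowers_le]
          exact hxW''
        exact h1 hzW''
      have := hW'e.1
      have hcop : (Nat.card A).Coprime (Nat.card W') := by
        obtain ⟨n, hn⟩ := IsPGroup.iff_card.1 hW'p
        rw [hn, hA, Nat.card_zpowers]
        exact Nat.Coprime.pow_right n hxc
      have hdis := Cfsg.H1.coprime_abelian_disjoint A W' hAW' hcop
      have hzbot : z ∈ (W' ⊓ Subgroup.centralizer (A : Set G)) ⊓ ⁅W', A⁆ := ⟨⟨hzW', hzA⟩, hz.1⟩
      rw [hdis, Subgroup.mem_bot] at hzbot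
      exact hz1 (Subtype.ext hzbot)
    rw [Subgroup.le_centralizer_iff]
    exact key.trans inf_le_right
  apply hact _ inf_le_left
  · exact (le_inf Subgroup.le_normalizer ((hLK.trans (le_normalizer_yOf p K)).trans
      (normalizer_le_normalizer_centralizer _))).trans (normalizer_inf_le _ _)
  · intro e he
    exact ⟨0, by
      rw [pow_zero, pow_one]
      exact Subgroup.centralizer_le (SetLike.coe_subset_coe.2 hW'Y) he.2⟩

theorem inf_centralizer_le_centralizer_yOf [Fact p.Prime] [Finite G] {L : Subgroup G}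
    (hL : L.IsSubnormal) :
    L ⊓ Subgroup.centralizer (largestPReduced p G : Set G) ≤
      Subgroup.centralizer (largestPReducedOf p L : Set G) := by
  induction hL with
  | top => rw [yOf_top]; exact inf_le_right
  | step K K' hle _ hn ih =>
    have h1 : K ⊓ Subgroup.centralizer (largestPReduced p G : Set G) ≤
        K ⊓ Subgroup.centralizer (largestPReducedOf p K' : Set G) :=
      le_inf inf_le_left ((inf_le_inf_right _ hle).trans ih)
    exact h1.trans (inf_centralizer_yOf_le_of_normal hle
      ((Subgroup.normal_subgroupOf_iff_le_normalizer hle).1 hn))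

theorem inf_centralizer_inf_le [Fact p.Prime] [Finite G] {L : Subgroup G} (hL : L.IsSubnormal) :
    L ⊓ Subgroup.centralizer ((largestPReduced p G ⊓ L : Subgroup G) : Set G) ≤
      Subgroup.centralizer (largestPReduced p G : Set G) := by
  set Y := largestPReduced p G with hYdef
  have hY : IsPReducedNormal p Y := largestPReduced_isPReducedNormal
  have hYn : Y.Normal := hY.1
  have hYp : IsPGroup p Y := IsElementaryAbelian.isPGroup' hY.2.1
  set V := Y ⊓ L with hV
  set D := L ⊓ Subgroup.centralizer (V : Set G) with hD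
  have hDL : D ≤ L := inf_le_left
  have hLV : L ≤ Subgroup.normalizer (V : Set G) :=
    (le_inf Subgroup.le_normalizer_of_normal Subgroup.le_normalizer).trans (normalizer_inf_le _ _)
  have hLD : L ≤ Subgroup.normalizer (D : Set G) :=
    (le_inf Subgroup.le_normalizer (hLV.trans (normalizer_le_normalizer_centralizer V))).trans
      (normalizer_inf_le _ _)
  have hDs : D.IsSubnormal := Subgroup.IsSubnormal.step D L hDL hL
    ((Subgroup.normal_subgroupOf_iff_le_normalizer hDL).2 hLD)
  obtain ⟨h1, -⟩ := preduced_commutator_subnormal hY hDs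
  set R := (pResidual p ↥D).map D.subtype with hR
  have hRD : R ≤ D := pResidual_map_subtype_le D
  have h2 : ⁅Y, R⁆ ≤ V :=
    le_inf (commutator_le_left_of_le_normalizer Subgroup.le_normalizer_of_normal) (h1.trans hDL)
  have hst : ⁅⁅Y, R⁆, R⁆ = ⁅Y, R⁆ := commutator_pResOf_stable hYp Subgroup.le_normalizer_of_normal
  have h3 : ⁅Y, R⁆ = ⊥ := by
    rw [← hst, eq_bot_iff]
    refine (Subgroup.commutator_mono h2 (hRD.trans inf_le_right)).trans ?_
    rw [le_bot_iff, Subgroup.commutator_eq_bot_iff_le_centralizer, Subgroup.le_centralizer_iff]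
  have h4 : R ≤ Subgroup.centralizer (Y : Set G) := by
    rw [Subgroup.commutator_eq_bot_iff_le_centralizer, Subgroup.le_centralizer_iff] at h3
    exact h3
  apply le_centralizer_of_isSubnormal hY hDs
  intro d hd
  obtain ⟨k, hk⟩ := exists_pow_coprime (p := p) d
  exact ⟨k, h4 (mem_pResOf_of_coprime (D.pow_mem hd _) hk)⟩

theorem isPReducedNormal_inf_subnormal [Fact p.Prime] [Finite G] {L : Subgroup G}
    (hL : L.IsSubnormal) :
    IsPReducedNormal p ((largestPReduced p G ⊓ L).subgroupOf L) := by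
  have hY : IsPReducedNormal p (largestPReduced p G) := largestPReduced_isPReducedNormal
  have hYn : (largestPReduced p G).Normal := hY.1
  rw [isPReducedNormal_subgroupOf_iff' inf_le_right]
  refine ⟨(le_inf Subgroup.le_normalizer_of_normal Subgroup.le_normalizer).trans
    (normalizer_inf_le _ _), isElementaryAbelian_of_le hY.2.1 inf_le_left, ?_⟩
  intro D hDL hLD hD
  have hDs : D.IsSubnormal := Subgroup.IsSubnormal.step D L hDL hL
    ((Subgroup.normal_subgroupOf_iff_le_normalizer hDL).2 hLD)
  refine (le_centralizer_of_isSubnormal hY hDs ?_).trans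
    (Subgroup.centralizer_le (SetLike.coe_subset_coe.2 inf_le_left))
  intro d hd
  obtain ⟨k, hk⟩ := hD d hd
  exact ⟨k, inf_centralizer_inf_le hL ⟨L.pow_mem (hDL hd) _, hk⟩⟩

end ysub

end Cfsg.Agent.Lib.Helper16
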